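import Cfsg.Agent.H6.LR.M.Pres
import Cfsg.Agent.H6.LR.Y.Chk0
import Cfsg.Agent.H6.LR.Y.Chk1
import Cfsg.Agent.H6.LR.Y.Chk2
import Cfsg.Agent.H6.LR.Y.Chk3
import Cfsg.Agent.H6.LR.Y.Chk4
import Cfsg.Agent.H6.LR.Y.Chk5
import Cfsg.Agent.H6.LR.Y.Chk6
import Cfsg.Agent.H6.LR.Y.Chk7
import Cfsg.Agent.H6.LR.Y.Chk8
import Cfsg.Agent.H6.LR.Y.Chk9
import Cfsg.Agent.H6.LR.Y.Chk10
import Cfsg.Agent.H6.LR.Y.Chk11
import Cfsg.Agent.H6.LR.Y.Chk12
import Cfsg.Agent.H6.LR.Y.Chk13

set_option autoImplicit false
set_option maxRecDepth 100000
set_option Elab.async false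

namespace Cfsg.H6.LR.Y

theorem ptOK : PtOK img 30800 LS EQS := ptOK_of_chk fun p h1 h2 => by
  rw [← ptU_eq]
  exact (range_join (range_join (range_join (range_join (range_join (allR_range p0 (by norm_num : 0 + 768 = 768)) (allR_range p1 (by norm_num : 768 + 768 = 1536))) (range_join (allR_range p2 (by norm_num : 1536 + 768 = 2304)) (range_join (allR_range p3 (by norm_num : 2304 + 768 = 3072)) (allR_range p4 (by norm_num : 3072 + 768 = 3840))))) (range_join (range_join (allR_range p5 (by norm_num : 3840 + 768 = 4608)) (allR_range p6 (by norm_num : 4608 + 768 = 5376))) (range_join (allR_range p7 (by norm_num : 5376 + 768 = 6144)) (range_join (allR_range p8 (by norm_num : 6144 + 768 = 6912)) (allR_range p9 (by norm_num : 6912 + 768 = 7680)))))) (range_join (range_join (range_join (allR_range p10 (by norm_num : 7680 + 768 = 8448)) (allR_range p11 (by norm_num : 8448 + 768 = 9216))) (range_join (allR_range p12 (by norm_num : 9216 + 768 = 9984)) (range_join (allR_range p13 (by norm_num : 9984 + 768 = 10752)) (allR_range p14 (by norm_num : 10752 + 768 = 11520))))) (range_join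 (range_join (allR_range p15 (by norm_num : 11520 + 768 = 12288)) (allR_range p16 (by norm_num : 12288 + 768 = 13056))) (range_join (allR_range p17 (by norm_num : 13056 + 768 = 13824)) (range_join (allR_range p18 (by norm_num : 13824 + 768 = 14592)) (allR_range p19 (by norm_num : 14592 + 768 = 15360))))))) (range_join (range_join (range_join (range_join (allR_range p20 (by norm_num : 15360 + 768 = 16128)) (allR_range p21 (by norm_num : 16128 + 768 = 16896))) (range_join (allR_range p22 (by norm_num : 16896 + 768 = 17664)) (range_join (allR_range p23 (by norm_num : 17664 + 768 = 18432)) (allR_range p24 (by norm_num : 18432 + 768 = 19200))))) (range_join (range_join (allR_range p25 (by norm_num : 19200 + 768 = 19968)) (allR_range p26 (by norm_num : 19968 + 768 = 20736))) (range_join (allR_range p27 (by norm_num : 20736 + 768 = 21504)) (range_join (allR_range p28 (by norm_num : 21504 + 768 = 22272)) (allR_range p29 (by norm_num : 22272 + 768 = 23040)))))) (range_join (range_join (range_join (allR_range p30 (by norm_num : 23040 + 768 = 23808)) (allR_range p31 (by norm_num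 : 23808 + 768 = 24576))) (range_join (allR_range p32 (by norm_num : 24576 + 768 = 25344)) (range_join (allR_range p33 (by norm_num : 25344 + 768 = 26112)) (allR_range p34 (by norm_num : 26112 + 768 = 26880))))) (range_join (range_join (allR_range p35 (by norm_num : 26880 + 768 = 27648)) (range_join (allR_range p36 (by norm_num : 27648 + 768 = 28416)) (allR_range p37 (by norm_num : 28416 + 768 = 29184)))) (range_join (allR_range p38 (by norm_num : 29184 + 768 = 29952)) (range_join (allR_range p39 (by norm_num : 29952 + 768 = 30720)) (allR_range p40 (by norm_num : 30720 + 80 = 30800)))))))) p h1 h2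

theorem hrep : repOK 18 1486034431776358958537884813664031080579328 LS EQS D LR.M.R = true := by decide +kernel

theorem rep : Good (evR img 30800 18) 1486034431776358958537884813664031080579328 ∧ Rels (evR img 30800 18) LR.M.R ∧
    IsAct (MonoidHom.id _) (evR img 30800 18) img 30800 18 := rep_sound ptOK hrep


end Cfsg.H6.LR.Y
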